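import Cfsg.Agent.Classical.Unitary.Matrix
import Cfsg.Agent.Classical.Symp.Matrix
import Cfsg.Agent.S0280
import Mathlib.Algebra.QuadraticAlgebra.Basic

/-!
The field with nine elements as a quadratic algebra, unitary matrices over it, and transport of the projective special
unitary groups along field isomorphisms.
-/

set_option autoImplicit false
set_option maxRecDepth 100000

namespace Cfsg.Lib.UFourThreeCover

open scoped Matrix

universe u v

/-- The field with nine elements. -/
abbrev K : Type := QuadraticAlgebra (ZMod 3) (-1) 0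

instance fact_nine : Fact (∀ r : ZMod 3, r ^ 2 ≠ -1 + 0 * r) := ⟨by decide⟩

instance fintype_nine : Fintype K := Fintype.ofEquiv _ (QuadraticAlgebra.equivProd (-1 : ZMod 3) 0).symm

theorem card_K : Fintype.card K = 9 := by
  rw [Fintype.card_congr (QuadraticAlgebra.equivProd (-1 : ZMod 3) 0), Fintype.card_prod, ZMod.card]

/-- The cube. -/
def cube : K →+* K where
  toFun x := x * x * x
  map_one' := by decide +kernel
  map_mul' := fun a b => by ring
  map_zero' := by decide +kernel
  map_add' := by decide +kernel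

theorem cube_apply (x : K) : cube x = x ^ 3 := by
  show x * x * x = _
  ring

theorem hermForm_eq (n : ℕ) (u v : Fin n → K) :
    Cfsg.hermForm n K 3 u v = u ⬝ᵥ (fun i => cube (v i)) := by
  simp [Cfsg.hermForm, dotProduct, cube_apply]

/-- Unitary matrices preserve the form. -/
theorem herm_preserved {n : ℕ} {M : Matrix (Fin n) (Fin n) K} (h : Mᵀ * M.map cube = 1) (u v : Fin n → K) :
    Cfsg.hermForm n K 3 (M *ᵥ u) (M *ᵥ v) = Cfsg.hermForm n K 3 u v := by
  rw [hermForm_eq, hermForm_eq]
  have e : (fun i => cube ((M *ᵥ v) i)) = M.map cube *ᵥ fun i => cube (v i) :=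
    funext fun i => RingHom.map_mulVec cube M v i
  rw [e, Matrix.dotProduct_mulVec, ← Matrix.mulVec_transpose, Matrix.mulVec_mulVec,
    show (M.map cube)ᵀ * M = (Mᵀ * M.map cube)ᵀ by rw [Matrix.transpose_mul, Matrix.transpose_transpose], h,
    Matrix.transpose_one, Matrix.one_mulVec]

/-- Transport along a field isomorphism. -/
theorem psu_congr {F : Type u} {L : Type v} [Field F] [Field L] (e : F ≃+* L) (n q : ℕ) :
    Nonempty (Cfsg.PSU n F q ≃* Cfsg.PSU n L q) := by
  have hmap : ∀ {F : Type u} {L : Type v} [Field F] [Field L] (e : F ≃+* L) (a : Matrix.SpecialLinearGroup (Fin n) F),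
      a ∈ Cfsg.SU n F q → Matrix.SpecialLinearGroup.map e.toRingHom a ∈ Cfsg.SU n L q := by
    intro F L _ _ e a ha u v
    obtain ⟨u', rfl⟩ : ∃ u' : Fin n → F, (fun i => e (u' i)) = u := ⟨fun i => e.symm (u i), by simp⟩
    obtain ⟨v', rfl⟩ : ∃ v' : Fin n → F, (fun i => e (v' i)) = v := ⟨fun i => e.symm (v i), by simp⟩
    have h := congrArg e (ha u' v')
    have hform : ∀ x y : Fin n → F, e (Cfsg.hermForm n F q x y) =
        Cfsg.hermForm n L q (fun i => e (x i)) (fun i => e (y i)) := fun x y => by simp [Cfsg.hermForm]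
    rw [hform, hform] at h
    have hmv : ∀ x : Fin n → F, (Cfsg.slToMat n L (Matrix.SpecialLinearGroup.map e.toRingHom a)).mulVec
        (fun i => e (x i)) = fun i => e ((Cfsg.slToMat n F a).mulVec x i) := fun x =>
      funext fun i => (RingHom.map_mulVec e.toRingHom _ x i).symm
    rw [hmv, hmv]
    exact h
  have hmap' : ∀ {F : Type u} {L : Type v} [Field F] [Field L] (e : F ≃+* L) (a : Matrix.SpecialLinearGroup (Fin n) L),
      a ∈ Cfsg.SU n L q → Matrix.SpecialLinearGroup.map e.symm.toRingHom a ∈ Cfsg.SU n F q := by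
    intro F L _ _ e a ha u v
    obtain ⟨u', rfl⟩ : ∃ u' : Fin n → L, (fun i => e.symm (u' i)) = u := ⟨fun i => e (u i), by simp⟩
    obtain ⟨v', rfl⟩ : ∃ v' : Fin n → L, (fun i => e.symm (v' i)) = v := ⟨fun i => e (v i), by simp⟩
    have h := congrArg e.symm (ha u' v')
    have hform : ∀ x y : Fin n → L, e.symm (Cfsg.hermForm n L q x y) =
        Cfsg.hermForm n F q (fun i => e.symm (x i)) (fun i => e.symm (y i)) := fun x y => by simp [Cfsg.hermForm]
    rw [hform, hform] at h
    have hmv : ∀ x : Fin n → L, (Cfsg.slToMat n F (Matrix.SpecialLinearGroup.map e.symm.toRingHom a)).mulVec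
        (fun i => e.symm (x i)) = fun i => e.symm ((Cfsg.slToMat n L a).mulVec x i) := fun x =>
      funext fun i => (RingHom.map_mulVec e.symm.toRingHom _ x i).symm
    rw [hmv, hmv]
    exact h
  let E : Cfsg.SU n F q ≃* Cfsg.SU n L q :=
    { toFun := fun a => ⟨_, hmap e a.1 a.2⟩
      invFun := fun a => ⟨_, hmap' e a.1 a.2⟩
      left_inv := fun a => Subtype.ext (Subtype.ext (Matrix.ext fun i j => e.symm_apply_apply (a.1.1 i j)))
      right_inv := fun a => Subtype.ext (Subtype.ext (Matrix.ext fun i j => e.apply_symm_apply (a.1.1 i j)))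
      map_mul' := fun a b => Subtype.ext (map_mul (Matrix.SpecialLinearGroup.map e.toRingHom) a.1 b.1) }
  exact ⟨Cfsg.Lib.Classical.centerQuotCongr E⟩

theorem card_psu : Nat.card (Cfsg.PSU 4 K 3) = 3265920 := by
  have h := Cfsg.Agent.S0280.result (F := K) (q := 3) card_K 4 (by norm_num)
  norm_num [Finset.prod_range_succ, Nat.even_add_one] at h ⊢
  omega

end Cfsg.Lib.UFourThreeCover
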